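import Groth.Agent.SmDefLib.Obstruction
import Groth.Agent.SmDefLib.Uniq
import Groth.Agent.PnDualLib.HomExtAdd
import Groth.Agent.QCohLib.Vanishing
import Groth.Agent.S0440

/-!
# Smooth lifts of affine schemes along nilpotent immersions
-/

set_option autoImplicit false
set_option linter.all false
set_option backward.isDefEq.respectTransparency false
set_option maxHeartbeats 1000000
set_option synthInstance.maxHeartbeats 400000

universe u

open CategoryTheory CategoryTheory.Limits AlgebraicGeometry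

noncomputable section

namespace AffLiftLib

open SmDefLib

theorem subsingleton_ext {X : Scheme.{u}} [IsAffine X] [HasExt.{u} X.Modules] {F : X.Modules}
    (hF : FlatMod.IsFinLocFree F) (W : X.Modules) [Coh.IsQCoh W] (i : ℕ) (hi : 0 < i) :
    Subsingleton (Abelian.Ext.{u} F W i) := by
  obtain ⟨e⟩ := PnDualLib.nonempty_ext_homMod_add hF i W
  haveI : Coh.IsQCoh (CohCmpLib.homMod F W) := BoxSurjLib.isQCoh_homMod hF
  haveI : Subsingleton (Coh.HH X (CohCmpLib.homMod F W) i) := QCohLib.subsingleton_HH_affine _ i hi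
  haveI : Subsingleton (CohCmpLib.HC X (CohCmpLib.homMod F W) i) := ‹_›
  exact e.toEquiv.subsingleton

/-- Existence and uniqueness of smooth lifts. -/
def HasUniqueLift {X₀ S₀ S : Scheme.{u}} (i : S₀ ⟶ S) (f₀ : X₀ ⟶ S₀) : Prop :=
  ∃ (X : Scheme.{u}) (f : X ⟶ S) (j : X₀ ⟶ X), Smooth f ∧ IsPullback j f₀ f i ∧
    ∀ (X' : Scheme.{u}) (f' : X' ⟶ S) (j' : X₀ ⟶ X'), Smooth f' → IsPullback j' f₀ f' i →
      ∃ e : X ≅ X', j ≫ e.hom = j' ∧ e.hom ≫ f' = f

theorem hasUniqueLift_subscheme {X₀ S : Scheme.{u}} [IsAffine X₀] (I : S.IdealSheafData) (hI : I ^ 2 = ⊥)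
    (f₀ : X₀ ⟶ I.subscheme) [Smooth f₀] : HasUniqueLift I.subschemeι f₀ := by
  haveI : EnoughInjectives X₀.Modules := ModSiteLib.sheafOfModules_enoughInjectives (R := X₀.ringCatSheaf)
  haveI : HasExt.{u} X₀.Modules := hasExt_of_enoughInjectives.{u} _
  obtain ⟨X, f, j, hf, hc⟩ := exists_lift_of_ext_two hI
    (subsingleton_ext (isFinLocFree_omega f₀) (MK I f₀) 2 two_pos)
  refine ⟨X, f, j, hf, hc, fun X' f' j' hf' hc' => ?_⟩
  haveI := hf
  haveI := hf'
  obtain ⟨φ, hφ⟩ := exists_iso_of_ext_one hI (subsingleton_ext (isFinLocFree_omega f₀) (MK I f₀) 1 one_pos)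
    (globalLift hI hc) (globalLift hI hc') (std_globalLift hI hc) (std_globalLift hI hc') le_rfl le_rfl
  haveI := hφ
  exact exists_iso_of_hom hI hc hc' φ

theorem hasUniqueLift_sq {X₀ S₀ S : Scheme.{u}} [IsAffine X₀] (i : S₀ ⟶ S) [IsClosedImmersion i]
    (hI : i.ker ^ 2 = ⊥) (f₀ : X₀ ⟶ S₀) [Smooth f₀] : HasUniqueLift i f₀ := by
  have key : ∀ {X : Scheme.{u}} (f : X ⟶ S) (j : X₀ ⟶ X),
      IsPullback j f₀ f i ↔ IsPullback j (f₀ ≫ i.toImage) f i.ker.subschemeι := by
    intro X f j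
    constructor
    · exact fun h => h.of_iso (Iso.refl _) (Iso.refl _) (asIso i.toImage) (Iso.refl _)
        (by simp) (by simp) (by simp) (by simp)
    · exact fun h => h.of_iso (Iso.refl _) (Iso.refl _) (asIso i.toImage).symm (Iso.refl _)
        (by simp) (by simp) (by simp) (by rw [Iso.symm_hom, asIso_inv, IsIso.eq_inv_comp]; simp)
  obtain ⟨X, f, j, hf, hc, hu⟩ := hasUniqueLift_subscheme i.ker hI (f₀ ≫ i.toImage)
  exact ⟨X, f, j, hf, (key f j).2 hc, fun X' f' j' hf' hc' => hu X' f' j' hf' ((key f' j').1 hc')⟩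

theorem hasUniqueLift_pow (m : ℕ) : ∀ {X₀ S₀ S : Scheme.{u}} [IsAffine X₀] (i : S₀ ⟶ S) [IsClosedImmersion i]
    [Surjective i], i.ker ^ (2 ^ m) = ⊥ → ∀ (f₀ : X₀ ⟶ S₀) [Smooth f₀], HasUniqueLift i f₀ := by
  induction m with
  | zero =>
    intro X₀ S₀ S _ i _ _ hI f₀ _
    rw [pow_zero, pow_one] at hI
    refine hasUniqueLift_sq i ?_ f₀
    ext U : 2
    rw [hI]
    simp
  | succ m ih =>
    intro X₀ S₀ S _ i _ _ hI f₀ _
    let J := i.ker ^ 2
    have hle : J ≤ i.ker := fun U => by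
      simp only [J, Scheme.IdealSheafData.ideal_pow, Pi.pow_apply]
      exact Ideal.pow_le_self two_ne_zero
    let k : S₀ ⟶ J.subscheme := i.toImage ≫ Scheme.IdealSheafData.inclusion hle
    have hk : k ≫ J.subschemeι = i := by simp [k]
    haveI : IsClosedImmersion (k ≫ J.subschemeι) := by rw [hk]; infer_instance
    haveI : IsClosedImmersion k := IsClosedImmersion.of_comp k J.subschemeι
    haveI : Surjective k := ⟨fun z => by
      obtain ⟨x, hx⟩ := i.surjective (J.subschemeι.base z)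
      refine ⟨x, J.subschemeι.isClosedEmbedding.injective ?_⟩
      rw [← Scheme.Hom.comp_apply, hk]; exact hx⟩
    haveI : Surjective J.subschemeι := ⟨fun z => by
      obtain ⟨x, hx⟩ := i.surjective z
      exact ⟨k.base x, by rw [← Scheme.Hom.comp_apply, hk]; exact hx⟩⟩
    have hkI : IsPullback (𝟙 S₀) k i J.subschemeι := IsPullback.of_horiz_isIso_mono ⟨by rw [Category.id_comp, hk]⟩
    have hker : k.ker ^ 2 = ⊥ := by
      have h : k.ker = i.ker.comap J.subschemeι := FComplLib.ker_of_isPullback hkI.flip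
      rw [h, ← FComplLib.comap_pow_succ J.subschemeι i.ker 1]
      show J.comap J.subschemeι = ⊥
      have h2 := FComplLib.ker_of_isPullback (IsKernelPair.id_of_mono J.subschemeι)
      rw [J.ker_subschemeι] at h2
      rw [← h2]
      simp
    obtain ⟨X₁, f₁, j₁, hf₁, hc₁, hu₁⟩ := hasUniqueLift_sq k hker f₀
    haveI := hf₁
    haveI : Surjective j₁ := FComplLib.surjective_of_isPullback hc₁
    haveI : IsClosedImmersion j₁ := FComplLib.isClosedImmersion_of_isPullback hc₁
    haveI : IsAffine X₁ := Groth.Agent.S0440.result j₁ j₁.surjective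
    obtain ⟨X, f, j₂, hf, hc₂, hu₂⟩ := ih J.subschemeι (by
      rw [J.ker_subschemeι, ← pow_mul, ← pow_succ']; exact hI) f₁
    have hpaste : ∀ {Z Z₁ : Scheme.{u}} {g : Z ⟶ S} {g₁ : Z₁ ⟶ J.subscheme} {b : Z₁ ⟶ Z} {a : X₀ ⟶ Z₁},
        IsPullback a f₀ g₁ k → IsPullback b g₁ g J.subschemeι → IsPullback (a ≫ b) f₀ g i :=
      fun ha hb => by simpa [hk] using ha.paste_horiz hb
    refine ⟨X, f, j₁ ≫ j₂, hf, hpaste hc₁ hc₂, fun X' f' j' hf' hc' => ?_⟩
    haveI := hf'
    let a := pullback.lift j' (f₀ ≫ k) (by rw [Category.assoc, hk, hc'.w])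
    have hb : IsPullback (pullback.fst f' J.subschemeι) (pullback.snd f' J.subschemeι) f' J.subschemeι :=
      IsPullback.of_hasPullback f' J.subschemeι
    have ha : IsPullback a f₀ (pullback.snd f' J.subschemeι) k :=
      IsPullback.of_right (by rw [pullback.lift_fst, hk]; exact hc') (pullback.lift_snd _ _ _) hb
    obtain ⟨e₁, he₁, he₁'⟩ := hu₁ _ _ a inferInstance ha
    have hc₂' : IsPullback (e₁.hom ≫ pullback.fst f' J.subschemeι) f₁ f' J.subschemeι :=
      hb.of_iso e₁.symm (Iso.refl _) (Iso.refl _) (Iso.refl _) (by simp) (by simp [← he₁']) (by simp) (by simp)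
    obtain ⟨e, he, he'⟩ := hu₂ X' f' _ hf' hc₂'
    refine ⟨e, ?_, he'⟩
    rw [Category.assoc, he, ← Category.assoc, he₁, pullback.lift_fst]

theorem exists_pow_ker_eq_bot {S₀ S : Scheme.{u}} [AlgebraicGeometry.IsNoetherian S] (i : S₀ ⟶ S)
    [IsClosedImmersion i] [Surjective i] : ∃ m : ℕ, i.ker ^ (2 ^ m) = ⊥ := by
  classical
  have hU : ∀ U : S.affineOpens, ∃ n : ℕ, i.ker.ideal U ^ n = ⊥ := fun U => by
    haveI := IsLocallyNoetherian.component_noetherian (X := S) U
    have hle : i.ker.ideal U ≤ nilradical Γ(S, U.1) := fun x hx => by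
      rw [mem_nilradical, ← PrimeSpectrum.basicOpen_eq_bot_iff]
      refine TopologicalSpace.Opens.ext (Set.eq_empty_of_forall_notMem fun q hq => hq ?_)
      have h : U.2.fromSpec.base q ∈ (i.ker.support : Set S) ∩ U.1 :=
        ⟨i.range_subset_ker_support (i.surjective _), U.2.range_fromSpec.le ⟨q, rfl⟩⟩
      rw [Scheme.IdealSheafData.coe_support_inter] at h
      obtain ⟨q', hq', he⟩ := U.2.fromSpec_image_zeroLocus _ ▸ h
      rw [← U.2.fromSpec.isOpenEmbedding.injective he]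
      exact hq' hx
    obtain ⟨n, hn⟩ := IsNoetherianRing.isNilpotent_nilradical Γ(S, U.1)
    exact ⟨n, le_bot_iff.1 ((Ideal.pow_right_mono hle n).trans hn.le)⟩
  choose n hn using hU
  obtain ⟨t, ht⟩ := CompactSpace.elim_nhds_subcover (fun x : S => ((Classical.choose
    (exists_isAffineOpen_mem_and_subset (X := S) (x := x) (U := ⊤) trivial) : S.Opens) : Set S))
    fun x => (Classical.choose (exists_isAffineOpen_mem_and_subset (X := S) (x := x) (U := ⊤) trivial)).isOpen.mem_nhds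
      (Classical.choose_spec (exists_isAffineOpen_mem_and_subset (X := S) (x := x) (U := ⊤) trivial)).2.1
  let V : S → S.affineOpens := fun x => ⟨_,
    (Classical.choose_spec (exists_isAffineOpen_mem_and_subset (X := S) (x := x) (U := ⊤) trivial)).1⟩
  refine ⟨t.sup fun x => n (V x), ?_⟩
  refine Scheme.IdealSheafData.ext_of_iSup_eq_top (fun x : t => V x) (top_unique fun y _ => ?_) fun x => ?_
  · obtain ⟨x, hx, hy⟩ := Set.mem_iUnion₂.1 (ht.ge (Set.mem_univ y))
    exact TopologicalSpace.Opens.mem_iSup.2 ⟨⟨x, hx⟩, hy⟩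
  · rw [Scheme.IdealSheafData.ideal_pow, Pi.pow_apply]
    refine (le_bot_iff.1 ((Ideal.pow_le_pow_right ?_).trans (hn (V x.1)).le)).trans (by simp)
    exact (Finset.le_sup (f := fun x => n (V x)) x.2).trans Nat.lt_two_pow_self.le

end AffLiftLib
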